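import Mathlib
import Cfsg.Agent.GroupStructure3.McLInv.Data
import Cfsg.Agent.GroupStructure3.McLOut.Graph

/-!
Tables of permutations of the 275 vertices and Boolean tests on them.
-/

set_option autoImplicit false
set_option maxRecDepth 10000

namespace Cfsg.Agent.GroupStructure3.McLInv

open Cfsg.Agent.GroupStructure3.McLOut (adjM adjB Au mem_Au)

/-- Bounded universal Boolean quantifier. -/
def allB : ℕ → (ℕ → Bool) → Bool
  | 0, _ => true
  | n + 1, p => p n && allB n p

theorem allB_spec {p : ℕ → Bool} : ∀ {n}, allB n p = true → ∀ i < n, p i = true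
  | 0, _, i, hi => absurd hi (Nat.not_lt_zero i)
  | n + 1, h, i, hi => by
    rw [allB, Bool.and_eq_true] at h
    rcases Nat.lt_succ_iff_lt_or_eq.1 hi with hi | rfl
    exacts [allB_spec h.2 i hi, h.1]

/-- The image of a number in a table. -/
def pT (x i : ℕ) : ℕ := (x >>> (9 * i)) % 512

/-- A permutation acts as a table. -/
def IsT (x : ℕ) (σ : Equiv.Perm (Fin 275)) : Prop := ∀ i : Fin 275, ((σ i : Fin 275) : ℕ) = pT x i

theorem IsT.unique {x : ℕ} {σ τ : Equiv.Perm (Fin 275)} (hσ : IsT x σ) (hτ : IsT x τ) : σ = τ :=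
  Equiv.ext fun i => Fin.ext ((hσ i).trans (hτ i).symm)

theorem IsT.mul {x y : ℕ} {σ τ : Equiv.Perm (Fin 275)} (hσ : IsT x σ) (hτ : IsT y τ) (i : Fin 275) :
    (((σ * τ) i : Fin 275) : ℕ) = pT x (pT y i) := by
  rw [Equiv.Perm.mul_apply, hσ, hτ]

/-- A table is a permutation of period five. -/
def per5 (x : ℕ) : Bool :=
  allB 275 fun i => decide (pT x i < 275) && pT x (pT x (pT x (pT x (pT x i)))) == i

/-- A table is an involutive map. -/
def per2 (x : ℕ) : Bool := allB 275 fun i => decide (pT x i < 275) && pT x (pT x i) == i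

/-- A table preserves adjacency. -/
def autOK (x : ℕ) : Bool :=
  allB 275 fun i => allB 275 fun j => (adjM (pT x i)).testBit (pT x j) == (adjM i).testBit j

theorem exists_per5 {x : ℕ} (h : per5 x = true) : ∃ σ, IsT x σ ∧ σ ^ 5 = 1 := by
  have h' : ∀ i : Fin 275, pT x i < 275 ∧ pT x (pT x (pT x (pT x (pT x i)))) = i := fun i => by
    simpa using allB_spec h i i.2
  let f : Fin 275 → Fin 275 := fun i => ⟨pT x i, (h' i).1⟩
  have h5 : ∀ i, f (f (f (f (f i)))) = i := fun i => Fin.ext (h' i).2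
  refine ⟨⟨f, fun i => f (f (f (f i))), h5, h5⟩, fun i => rfl, Equiv.ext fun i => ?_⟩
  simp only [pow_succ, pow_zero, one_mul, Equiv.Perm.mul_apply, Equiv.Perm.one_apply]
  exact h5 i

theorem exists_per2 {x : ℕ} (h : per2 x = true) : ∃ σ, IsT x σ ∧ σ ^ 2 = 1 := by
  have h' : ∀ i : Fin 275, pT x i < 275 ∧ pT x (pT x i) = i := fun i => by
    simpa using allB_spec h i i.2
  let f : Fin 275 → Fin 275 := fun i => ⟨pT x i, (h' i).1⟩
  have h2 : ∀ i, f (f i) = i := fun i => Fin.ext (h' i).2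
  refine ⟨⟨f, f, h2, h2⟩, fun i => rfl, Equiv.ext fun i => ?_⟩
  simp only [pow_succ, pow_zero, one_mul, Equiv.Perm.mul_apply, Equiv.Perm.one_apply]
  exact h2 i

theorem mem_of_autOK {x : ℕ} {σ : Equiv.Perm (Fin 275)} (hσ : IsT x σ) (h : autOK x = true) :
    σ ∈ Au := by
  rw [mem_Au]
  intro i j
  have := allB_spec (allB_spec h i i.2) j j.2
  rw [beq_iff_eq] at this
  show (adjM (σ i : Fin 275)).testBit (σ j : Fin 275) = (adjM i).testBit j
  rw [hσ, hσ]
  exact this

end Cfsg.Agent.GroupStructure3.McLInv
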