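import Mathlib
import Cfsg.Agent.GroupStructure3.McLInv.Basic

/-!
The table genB preserves adjacency.
-/

set_option autoImplicit false
set_option maxRecDepth 10000

namespace Cfsg.Agent.GroupStructure3.McLInv

theorem aut_genB : autOK genB = true := by decide +kernel

end Cfsg.Agent.GroupStructure3.McLInv
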