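import Mathlib
import Cfsg.Agent.GroupStructure3.McLInv.Basic

/-!
The tests on the tables: the conjugation tree, the Sylow 2-subgroup, the fixed points.
-/

set_option autoImplicit false
set_option maxRecDepth 10000

namespace Cfsg.Agent.GroupStructure3.McLInv

open Cfsg.Agent.GroupStructure3.McLOut (adjM)

theorem gens_per : per5 genA = true ∧ per5 genB = true ∧ per2 tT = true := by decide +kernel

/-- A member of the tree. -/
def node (k : ℕ) : ℕ := (tree.getD k (0, false, 0)).2.2

/-- The letter of a member of the tree. -/
def letter (b : Bool) : ℕ := if b then genB else genA

/-- The test of the tree. -/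
def treeOK : Bool :=
  node 0 == tT && allB tree.length fun k => k == 0 ||
    (match tree.getD k (0, false, 0) with
     | (p, b, x) => decide (p < k) &&
        allB 275 fun i => pT x (pT (letter b) i) == pT (letter b) (pT (node p) i))

theorem tree_ok : treeOK = true := by decide +kernel

/-- A member of the Sylow 2-subgroup. -/
def sy (i : ℕ) : ℕ := syl.getD i 0

/-- The test of the closure of the Sylow 2-subgroup. -/
def sylOK : Bool :=
  (allB 275 fun i => pT (sy 0) i == i) && syl.length == 128 &&
  (sylGen.all fun e => decide (e.1 < tree.length) && e.2.length == 128 &&
    allB 128 fun i => decide (e.2.getD i 128 < 128) &&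
      allB 275 fun j => pT (node e.1) (pT (sy i) j) == pT (sy (e.2.getD i 128)) j) &&
  (allB 128 fun i => i == 0 || sylGen.any fun e => (List.range i).any fun j => e.2.getD j 128 == i)

theorem syl_ok : sylOK = true := by decide +kernel

theorem syl_nodup : (syl.map fun x => (List.range 275).map (pT x)).Nodup := by decide +kernel

/-- The test of the kinds of the members. -/
def witOK : Bool :=
  allB 128 fun i => i == 0 ||
    (match sylWit.getD i (0, 0, 0) with
     | (1, r, s) => decide (r < tree.length) && decide (s < 128) &&
        allB 275 fun j => pT (sy i) (pT (sy s) j) == pT (sy s) (pT (node r) j)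
     | (2, j, _) => decide (j < 275) && pT (sy i) (pT (sy i) j) != j
     | _ => false)

theorem wit_ok : witOK = true := by decide +kernel

theorem root_ok : rootIdx < 128 ∧
    (allB 275 fun j => pT (sy rootIdx) (pT (sy rootIdx) j) == pT tT j) = true := by decide +kernel

theorem fix_ok : (allB 275 fun i => (pT tT i == i) == fixL.contains i) = true ∧
    fixL.length = 35 ∧ fixL.Nodup ∧ ∀ i ∈ fixL, i < 275 := by decide +kernel

/-- A fixed point. -/
def fp (k : Fin 35) : Fin 275 := ⟨fixL.getD k 0 % 275, Nat.mod_lt _ (by norm_num)⟩

/-- The subset attached to a fixed point. -/
def part (k : Fin 35) : Finset (Fin 8) := Finset.univ.filter fun i => (partL.getD k 0).testBit i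

/-- Adjacency among the fixed points. -/
def adjF (k l : Fin 35) : Bool := Cfsg.Agent.GroupStructure3.McLOut.adjB (fp k) (fp l)

theorem part_ok : (∀ k, (part k).card = 4 ∧ (7 : Fin 8) ∉ part k) ∧
    (∀ k l, adjF k l = decide ((part k ∩ part l).card % 2 = 1)) ∧
    (∀ k l, part k = part l → k = l) := by decide +kernel

/-- A base point among the fixed points. -/
def bp (j : ℕ) : Fin 35 := ⟨(baseL.getD j (0, 0)).1 % 35, Nat.mod_lt _ (by norm_num)⟩

/-- An orbit bound. -/
def bnd (j : ℕ) : ℕ := (baseL.getD j (0, 0)).2

/-- The same adjacency to the first base points. -/
def sameSig (n : ℕ) (k l : Fin 35) : Bool :=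
  allB n fun j => adjF k (bp j) == adjF l (bp j) && (k == bp j) == (l == bp j)

theorem base_ok : ((List.range 6).map bnd).prod = 40320 ∧
    (∀ j < 6, (Finset.univ.filter fun k => sameSig j k (bp j) = true).card = bnd j) ∧
    (∀ k l, sameSig 6 k l = true → k = l) := by decide +kernel

/-- The mask of the fixed points. -/
def fixMask : ℕ := fixL.foldl (fun m i => m ||| 2 ^ i) 0

/-- The signatures of the vertices. -/
def sigs : List ℕ := (List.range 275).map fun i => adjM i &&& fixMask

theorem sig_ok : (allB 275 fun i => pT tT i == i || allB 275 fun j =>
    sigs.getD i 0 != sigs.getD j 0 || j == i || j == pT tT i || pT tT j == j) = true := by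
  decide +kernel

theorem fixMask_ok : (allB 275 fun i => fixMask.testBit i == fixL.contains i) = true ∧
    fixMask < 2 ^ 275 := by decide +kernel

/-- The test of the chain: each witness is the start, its image, or an earlier point or image. -/
def chainOK : List ℕ → List (ℕ × ℕ) → Bool
  | seen, [] => allB 275 fun i => pT tT i == i || seen.contains i
  | seen, (x, w) :: r => decide (x < 275) && seen.contains w &&
      (adjM w).testBit x != (adjM w).testBit (pT tT x) && chainOK (x :: pT tT x :: seen) r

theorem chain_ok : start < 275 ∧ chainOK [start, pT tT start] chain = true := by decide +kernel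

/-- The composite of a word in the tree. -/
def wordT : List ℕ → ℕ → ℕ
  | [], i => i
  | k :: r, i => pT (node k) (wordT r i)

/-- The normal form of a subset. -/
def nm (s : Finset (Fin 8)) : Finset (Fin 8) := if (7 : Fin 8) ∈ s then sᶜ else s

/-- The 3-cycle. -/
def p3 : Equiv.Perm (Fin 8) := Equiv.swap 0 1 * Equiv.swap 1 2

/-- The 7-cycle. -/
def p7 : Equiv.Perm (Fin 8) :=
  ([1, 2, 3, 4, 5, 6, 7] : List (Fin 8)).formPerm

theorem words_ok : (∀ k ∈ word3 ++ word7, k < tree.length ∧
      (allB 275 fun i => pT (node k) (pT tT i) == pT tT (pT (node k) i)) = true) ∧
    (∀ k : Fin 35, ∃ l : Fin 35, wordT word3 (fp k) = fp l ∧ part l = nm ((part k).image p3)) ∧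
    (∀ k : Fin 35, ∃ l : Fin 35, wordT word7 (fp k) = fp l ∧ part l = nm ((part k).image p7)) := by
  decide +kernel

/-- Words for the products with the first transposition. -/
def swapWords : List (Fin 8 × Fin 8 × List Bool) := [(0, 1, []), (0, 2, [false]), (0, 3, [true, false, true, true, true, true, true, true, false]), (0, 4, [true, false, true, true, false, true, false, true, false, true, false, false]), (0, 5, [false, true, false, true, false, true, true, false, true, false, true]), (0, 6, [true, true, true, true, true, false, false, true, false, false, true]), (0, 7, [true, true, true, true, true, true, false, false, true]), (1, 2, [false, false]), (1, 3, [false, true, false, true, true, true, true, true, true, false, false]), (1, 4, [false, true, false, true, true, false, true, false, true, false, true]), (1, 5, [false, false, true, false, true, false, true, true, false, true, false, true, false]), (1, 6, [false, true, false, true, false, true, false, true, true, false, true]), (1, 7, [true, true, true, true, true, true, false, true]), (2, 3, [true, false, false, true, true, true, true, true, true, false]), (2, 4, [true, false, false, true, false, false, true, true, true, true, true,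 false]), (2, 5, [true, false, true, false, true, true, false, true, false, true, false, false]), (2, 6, [false, false, true, false, true, false, true, false, true, true, false, true, false]), (2, 7, [false, true, true, true, true, true, true, false, true, false]), (3, 4, [true, false, false, true, false, true, true, true, true, true, false]), (3, 5, [true, false, false, true, true, false, true, false, false, true, true, false, false, true, true]), (3, 6, [true, false, true, true, false, false, true, false, true, false, false, true, true, false, true, true]), (3, 7, [true, true, true, true, false, true, true, false, true, false, true, true, false, true, true, true, false, false, true]), (4, 5, [true, false, false, true, false, false, true, false, true, true, true, true, false]), (4, 6, [true, false, false, true, true, false, false, true, false, true, true, false, false, true, true]), (4, 7, [true, true, false, true, true, false, false, true, false, true, false, false, true, true, false, true, false]), (5, 6, [true, true, true, true, false, true, false, false, true, false, false, true]), (5, 7, [true, false, false, true, true, false, false, true, true, false, true, false, false, true, true]), (6,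 7, [true, true, true, true, true, false, true, false, false, true])]

/-- The value of a word. -/
def evalW (w : List Bool) : Equiv.Perm (Fin 8) := (w.map fun b => if b then p7 else p3).prod

theorem swap_ok : ∀ a b : Fin 8, a < b →
    ∃ e ∈ swapWords, Equiv.swap a b * Equiv.swap 0 1 = evalW e.2.2 ∧ e.1 = a ∧ e.2.1 = b := by
  decide +kernel

end Cfsg.Agent.GroupStructure3.McLInv
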