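import Mathlib
import Cfsg.Agent.GroupStructure3.McLInv.Checks
import Cfsg.Agent.GroupStructure3.McLInv.AutA
import Cfsg.Agent.GroupStructure3.McLInv.AutB
import Cfsg.Agent.GroupStructure3.McLInv.AutT
import Cfsg.Agent.GroupStructure3.McLOut.Model

/-!
The image of the McLaughlin group on the 275 vertices and its conjugacy class of involutions.
-/

set_option autoImplicit false
set_option maxRecDepth 10000

namespace Cfsg.Agent.GroupStructure3.McLInv

open Cfsg.Agent.GroupStructure3.McLOut (toPerm toPerm_mem toPerm_injective Au card_Au)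
open Cfsg.Agent.LeechAut

local notation "P275" => Equiv.Perm (Fin 275)

/-- The image of the group. -/
noncomputable def TT : Subgroup P275 := toPerm.range

theorem TT_le : TT ≤ Au := by rintro _ ⟨g, rfl⟩; exact toPerm_mem g

theorem card_TT : Nat.card TT = 898128000 := by
  rw [← McL.card_G]
  exact (Nat.card_congr (MonoidHom.ofInjective toPerm_injective).toEquiv).symm

theorem index_TT : (TT.subgroupOf Au).index = 2 := by
  have h := (TT.subgroupOf Au).card_mul_index
  rw [Nat.card_congr (Subgroup.subgroupOfEquivOfLe TT_le).toEquiv, card_TT, card_Au] at h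
  omega

theorem sq_mem {σ : P275} (h : σ ∈ Au) : σ ^ 2 ∈ TT :=
  Subgroup.sq_mem_of_index_two index_TT ⟨σ, h⟩

theorem mem_of_pow_five {σ : P275} (h : σ ∈ Au) (h5 : σ ^ 5 = 1) : σ ∈ TT := by
  have e : σ = (σ ^ 3) ^ 2 := by rw [← pow_mul, show 3 * 2 = 5 + 1 by rfl, pow_add, h5, one_mul, pow_one]
  rw [e]
  exact sq_mem (pow_mem h 3)

theorem exists_basic : ∃ a b t : P275, IsT genA a ∧ a ∈ TT ∧ IsT genB b ∧ b ∈ TT ∧ IsT tT t ∧ t ^ 2 = 1 ∧
    t ∈ Au := by
  obtain ⟨ha, hb, ht⟩ := gens_per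
  obtain ⟨a, a1, a2⟩ := exists_per5 ha
  obtain ⟨b, b1, b2⟩ := exists_per5 hb
  obtain ⟨t, t1, t2⟩ := exists_per2 ht
  exact ⟨a, b, t, a1, mem_of_pow_five (mem_of_autOK a1 aut_genA) a2, b1,
    mem_of_pow_five (mem_of_autOK b1 aut_genB) b2, t1, t2, mem_of_autOK t1 aut_tT⟩

/-- The involution as a permutation. -/
noncomputable def t0 : P275 := exists_basic.choose_spec.choose_spec.choose

theorem t0_spec : IsT tT t0 ∧ t0 ^ 2 = 1 ∧ t0 ∈ Au :=
  exists_basic.choose_spec.choose_spec.choose_spec.2.2.2.2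

theorem exists_letter (c : Bool) : ∃ g, IsT (letter c) g ∧ g ∈ TT := by
  obtain ⟨a, b, -, ha, ha', hb, hb', -⟩ := exists_basic
  cases c
  exacts [⟨a, ha, ha'⟩, ⟨b, hb, hb'⟩]

theorem node_spec : ∀ k < tree.length, ∃ h ∈ TT, IsT (node k) (h * t0 * h⁻¹) := by
  have hok := tree_ok
  rw [treeOK, Bool.and_eq_true, beq_iff_eq] at hok
  intro k
  induction k using Nat.strong_induction_on with
  | _ k ih =>
    intro hk
    by_cases h0 : k = 0
    · subst h0
      refine ⟨1, one_mem _, ?_⟩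
      rw [one_mul, inv_one, mul_one, hok.1]
      exact t0_spec.1
    · have h := allB_spec hok.2 k hk
      rcases e : tree.getD k (0, false, 0) with ⟨p, c, x⟩
      rw [e, Bool.or_eq_true, beq_iff_eq] at h
      have h' := h.resolve_left h0
      simp only [Bool.and_eq_true, decide_eq_true_eq] at h'
      obtain ⟨h, hh, hh'⟩ := ih p h'.1 (h'.1.trans hk)
      obtain ⟨g, hg, hg'⟩ := exists_letter c
      refine ⟨g * h, mul_mem hg' hh, fun i => ?_⟩
      obtain ⟨j, rfl⟩ := g.surjective i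
      have e2 : ((g * h) * t0 * (g * h)⁻¹) (g j) = g ((h * t0 * h⁻¹) j) := by
        simp [Equiv.Perm.mul_apply, mul_inv_rev]
      rw [e2, hg, hh', show node k = x by rw [node, e], hg]
      exact (beq_iff_eq.1 (allB_spec h'.2 j j.2)).symm

theorem sylGen_facts : ∀ e ∈ sylGen, e.1 < tree.length ∧ ∀ i < 128, e.2.getD i 128 < 128 ∧
    ∀ j < 275, pT (node e.1) (pT (sy i) j) = pT (sy (e.2.getD i 128)) j := by
  have hok := syl_ok
  simp only [sylOK, Bool.and_eq_true, List.all_eq_true] at hok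
  intro e he
  obtain ⟨⟨h1, -⟩, h3⟩ := hok.1.2 e he
  refine ⟨of_decide_eq_true h1, fun i hi => ?_⟩
  have h := allB_spec h3 i hi
  rw [Bool.and_eq_true] at h
  exact ⟨of_decide_eq_true h.1, fun j hj => beq_iff_eq.1 (allB_spec h.2 j hj)⟩

/-- The generators of the Sylow 2-subgroup. -/
def gset : Set P275 := {σ | ∃ e ∈ sylGen, IsT (node e.1) σ}

theorem gset_spec {σ : P275} (h : σ ∈ gset) : σ ∈ Au ∧ σ ^ 2 = 1 := by
  obtain ⟨e, he, hσ⟩ := h
  obtain ⟨g, hg, hg'⟩ := node_spec e.1 (sylGen_facts e he).1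
  obtain rfl := hσ.unique hg'
  exact ⟨mul_mem (mul_mem (TT_le hg) t0_spec.2.2) (inv_mem (TT_le hg)),
    by rw [conj_pow, t0_spec.2.1, mul_one, mul_inv_cancel]⟩

/-- The Sylow 2-subgroup. -/
def Syl : Subgroup P275 := Subgroup.closure gset

theorem syl_zero : IsT (sy 0) 1 := by
  have hok := syl_ok
  simp only [sylOK, Bool.and_eq_true] at hok
  exact fun i => (beq_iff_eq.1 (allB_spec hok.1.1.1 i i.2)).symm

theorem syl_cover {σ : P275} (h : σ ∈ Syl) : ∃ i < 128, IsT (sy i) σ := by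
  have step : ∀ g ∈ gset, ∀ y, (∃ i < 128, IsT (sy i) y) → ∃ i < 128, IsT (sy i) (g * y) := by
    rintro g ⟨e, he, hg⟩ y ⟨i, hi, hy⟩
    obtain ⟨h1, h2⟩ := (sylGen_facts e he).2 i hi
    exact ⟨_, h1, fun j => by rw [hg.mul hy j, h2 j j.2]⟩
  induction h using Subgroup.closure_induction_left with
  | one => exact ⟨0, by norm_num, syl_zero⟩
  | mul_left g hg y _ ih => exact step g hg y ih
  | inv_mul_cancel g hg y _ ih =>
    have e : g⁻¹ = g := inv_eq_of_mul_eq_one_right (by rw [← pow_two, (gset_spec hg).2])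
    rw [e]
    exact step g hg y ih

theorem exists_sy : ∀ i < 128, ∃ σ ∈ Syl, IsT (sy i) σ := by
  have hok := syl_ok
  simp only [sylOK, Bool.and_eq_true] at hok
  intro i
  induction i using Nat.strong_induction_on with
  | _ i ih =>
    intro hi
    by_cases h0 : i = 0
    · subst h0; exact ⟨1, one_mem _, syl_zero⟩
    · have h := allB_spec hok.2 i hi
      simp only [Bool.or_eq_true, beq_iff_eq, h0, false_or, List.any_eq_true, List.mem_range] at h
      obtain ⟨e, he, j, hj, hji⟩ := h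
      obtain ⟨hk, hmul⟩ := sylGen_facts e he
      obtain ⟨y, hy, hy'⟩ := ih j hj (hj.trans hi)
      obtain ⟨g, -, hg⟩ := node_spec e.1 hk
      refine ⟨_, mul_mem (Subgroup.subset_closure ⟨e, he, hg⟩) hy, fun l => ?_⟩
      rw [hg.mul hy' l, (hmul j (hj.trans hi)).2 l l.2, hji]

/-- A member of the Sylow 2-subgroup. -/
noncomputable def syP (i : Fin 128) : Syl :=
  ⟨(exists_sy i i.2).choose, (exists_sy i i.2).choose_spec.1⟩

theorem syP_spec (i : Fin 128) : IsT (sy i) (syP i : P275) := (exists_sy i i.2).choose_spec.2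

theorem card_Syl : Nat.card Syl = 128 := by
  rw [← Nat.card_fin 128]
  refine (Nat.card_eq_of_bijective syP ⟨fun i j e => ?_, fun σ => ?_⟩).symm
  · have hok := syl_ok
    simp only [sylOK, Bool.and_eq_true, beq_iff_eq] at hok
    have hl : syl.length = 128 := hok.1.1.2
    have hi : (i : ℕ) < syl.length := by rw [hl]; exact i.2
    have hj : (j : ℕ) < syl.length := by rw [hl]; exact j.2
    have h := syl_nodup.getElem_inj_iff (i := (i : ℕ)) (j := (j : ℕ))
      (hi := by rw [List.length_map]; exact hi) (hj := by rw [List.length_map]; exact hj)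
    refine Fin.ext (h.1 ?_)
    rw [List.getElem_map, List.getElem_map]
    refine List.map_congr_left fun l hl' => ?_
    have hl2 : l < 275 := List.mem_range.1 hl'
    have e1 := syP_spec i ⟨l, hl2⟩
    have e2 := syP_spec j ⟨l, hl2⟩
    rw [sy, List.getD_eq_getElem _ _ hi] at e1
    rw [sy, List.getD_eq_getElem _ _ hj] at e2
    rw [← e1, ← e2, e]
  · obtain ⟨i, hi, hσ⟩ := syl_cover σ.2
    exact ⟨⟨i, hi⟩, Subtype.ext ((syP_spec _).unique hσ)⟩

theorem root_sq : (syP ⟨rootIdx, root_ok.1⟩ : P275) ^ 2 = t0 := by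
  refine Equiv.ext fun i => Fin.ext ?_
  rw [pow_two, (syP_spec _).mul (syP_spec _) i, t0_spec.1]
  exact beq_iff_eq.1 (allB_spec root_ok.2 i i.2)

theorem Syl_le_Au : Syl ≤ Au := (Subgroup.closure_le _).2 fun _ h => (gset_spec h).1

theorem t0_mem : t0 ∈ TT := by
  rw [← root_sq]
  exact sq_mem (Syl_le_Au (syP _).2)

theorem node_mem {k : ℕ} {σ : P275} (hk : k < tree.length) (h : IsT (node k) σ) : σ ∈ TT := by
  obtain ⟨g, hg, hg'⟩ := node_spec k hk
  rw [h.unique hg']
  exact mul_mem (mul_mem hg t0_mem) (inv_mem hg)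

theorem Syl_le : Syl ≤ TT := (Subgroup.closure_le _).2 fun _ ⟨e, he, hσ⟩ =>
  node_mem (sylGen_facts e he).1 hσ

/-- The involution in the group. -/
noncomputable def tG : TT := ⟨t0, t0_mem⟩

theorem t0_ne : t0 ≠ 1 := by
  intro h
  have := t0_spec.1 ⟨start, chain_ok.1⟩
  rw [h, Equiv.Perm.one_apply] at this
  have key : start ≠ pT tT start := by decide +kernel
  exact key this

theorem order_tG : orderOf tG = 2 :=
  orderOf_eq_prime (Subtype.ext (by rw [SubgroupClass.coe_pow]; exact t0_spec.2.1))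
    (fun h => t0_ne (congrArg Subtype.val h))

theorem inv_syl {σ : P275} (hσ : σ ∈ Syl) (h2 : σ ^ 2 = 1) (hne : σ ≠ 1) :
    ∃ g ∈ TT, g * t0 * g⁻¹ = σ := by
  obtain ⟨i, hi, hT⟩ := syl_cover hσ
  have h0 : i ≠ 0 := by rintro rfl; exact hne (hT.unique syl_zero)
  have h := allB_spec wit_ok i hi
  simp only [Bool.or_eq_true, beq_iff_eq, h0, false_or] at h
  rcases e : sylWit.getD i (0, 0, 0) with ⟨kind, r, s⟩
  rw [e] at h
  match kind, h with
  | 0, h => exact absurd h (by simp)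
  | 1, h =>
    simp only [Bool.and_eq_true, decide_eq_true_eq] at h
    obtain ⟨g, hg, hg'⟩ := node_spec r h.1.1
    set y := (syP ⟨s, h.1.2⟩ : P275) with hy
    refine ⟨y * g, mul_mem (Syl_le (syP _).2) hg, ?_⟩
    rw [mul_inv_rev, show y * g * t0 * (g⁻¹ * y⁻¹) = y * (g * t0 * g⁻¹) * y⁻¹ by group,
      mul_inv_eq_iff_eq_mul]
    refine Equiv.ext fun j => Fin.ext ?_
    rw [hT.mul (syP_spec _) j, (syP_spec ⟨s, h.1.2⟩).mul hg' j]
    exact (beq_iff_eq.1 (allB_spec h.2 j j.2)).symm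
  | 2, h =>
    simp only [Bool.and_eq_true, decide_eq_true_eq, bne_iff_ne] at h
    exfalso
    refine h.2 ?_
    have h' := hT.mul hT ⟨r, h.1⟩
    rw [← pow_two, h2] at h'
    exact h'.symm
  | k + 3, h => exact absurd h (by simp)

/-- All involutions are conjugate. -/
theorem isConj_tG {x : TT} (hx : orderOf x = 2) : IsConj tG x := by
  haveI : Fact (Nat.Prime 2) := ⟨Nat.prime_two⟩
  have hc : Nat.card (Syl.subgroupOf TT) = 2 ^ (Nat.card TT).factorization 2 := by
    rw [Nat.card_congr (Subgroup.subgroupOfEquivOfLe Syl_le).toEquiv, card_Syl, card_TT,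
      Nat.factorization_def _ Nat.prime_two, show (898128000 : ℕ) = 2 ^ 7 * 7016625 by norm_num,
      padicValNat.mul (by norm_num) (by norm_num), padicValNat.prime_pow,
      padicValNat.eq_zero_of_not_dvd (by norm_num), add_zero]
    norm_num
  obtain ⟨P, hP⟩ := (IsPGroup.of_card (n := 1) (by rw [Nat.card_zpowers, hx, pow_one]) :
    IsPGroup 2 (Subgroup.zpowers x)).exists_le_sylow
  obtain ⟨c, hcP⟩ := MulAction.exists_smul_eq TT P (Sylow.ofCard _ hc)
  have hmem : c * x * c⁻¹ ∈ Syl.subgroupOf TT := by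
    have h1 : c * x * c⁻¹ ∈ ((c • P : Sylow 2 TT) : Subgroup TT) :=
      ⟨x, hP (Subgroup.mem_zpowers x), rfl⟩
    rwa [hcP] at h1
  have h2 : x ^ 2 = 1 := by rw [← hx, pow_orderOf_eq_one]
  obtain ⟨g, hg, e⟩ := inv_syl (Subgroup.mem_subgroupOf.1 hmem)
    (by rw [← SubgroupClass.coe_pow, conj_pow, h2, mul_one, mul_inv_cancel]; rfl)
    (fun h => by
      have h1 : c * x * c⁻¹ = 1 := Subtype.ext h
      rw [conj_eq_one_iff] at h1
      rw [h1, orderOf_one] at hx
      norm_num at hx)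
  refine isConj_iff.2 ⟨c⁻¹ * ⟨g, hg⟩, ?_⟩
  have e' : (⟨g, hg⟩ : TT) * tG * (⟨g, hg⟩ : TT)⁻¹ = c * x * c⁻¹ := Subtype.ext e
  rw [mul_inv_rev, inv_inv, show c⁻¹ * (⟨g, hg⟩ : TT) * tG * ((⟨g, hg⟩ : TT)⁻¹ * c) =
    c⁻¹ * ((⟨g, hg⟩ : TT) * tG * (⟨g, hg⟩ : TT)⁻¹) * c by group, e']
  group

end Cfsg.Agent.GroupStructure3.McLInv
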