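import Mathlib
import Cfsg.Agent.GroupStructure3.McLInv.Checks

/-!
The graph on the fixed points is the graph of splittings of eight letters into two sets of four;
its automorphism group is the symmetric group of degree eight.
-/

set_option autoImplicit false
set_option maxRecDepth 10000

namespace Cfsg.Agent.GroupStructure3.McLInv

open Finset

/-- The automorphism group of the graph on the fixed points. -/
def Au35 : Subgroup (Equiv.Perm (Fin 35)) where
  carrier := {σ | ∀ i j, adjF (σ i) (σ j) = adjF i j}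
  mul_mem' := fun {σ τ} hσ hτ i j => (hσ _ _).trans (hτ i j)
  one_mem' := fun _ _ => rfl
  inv_mem' := fun {σ} hσ i j => by
    have := hσ (σ⁻¹ i) (σ⁻¹ j)
    rwa [Equiv.Perm.coe_inv, Equiv.apply_symm_apply, Equiv.apply_symm_apply, eq_comm] at this

/-- The stabiliser of the first base points. -/
def K35 (n : ℕ) : Subgroup (Equiv.Perm (Fin 35)) where
  carrier := {σ | σ ∈ Au35 ∧ ∀ j < n, σ (bp j) = bp j}
  mul_mem' := fun {σ τ} hσ hτ => ⟨mul_mem hσ.1 hτ.1, fun j hj => by
    rw [Equiv.Perm.mul_apply, hτ.2 j hj, hσ.2 j hj]⟩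
  one_mem' := ⟨one_mem _, fun _ _ => rfl⟩
  inv_mem' := fun {σ} hσ => ⟨inv_mem hσ.1, fun j hj => Equiv.Perm.inv_eq_iff_eq.2 (hσ.2 j hj).symm⟩

theorem allB_iff {p : ℕ → Bool} {n : ℕ} : allB n p = true ↔ ∀ i < n, p i = true := by
  refine ⟨allB_spec, fun h => ?_⟩
  induction n with
  | zero => rfl
  | succ n ih =>
    rw [allB, Bool.and_eq_true]
    exact ⟨h n (Nat.lt_succ_self n), ih fun i hi => h i (by omega)⟩

theorem sameSig_apply {n : ℕ} {σ : Equiv.Perm (Fin 35)} (hσ : σ ∈ K35 n) (k : Fin 35) :
    sameSig n (σ k) k = true := by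
  rw [sameSig, allB_iff]
  intro j hj
  rw [Bool.and_eq_true, beq_iff_eq, beq_iff_eq]
  refine ⟨?_, ?_⟩
  · have := hσ.1 k (bp j)
    rwa [hσ.2 j hj] at this
  · rw [Bool.eq_iff_iff, beq_iff_eq, beq_iff_eq]
    refine ⟨fun h => σ.injective (h.trans (hσ.2 j hj).symm), fun h => ?_⟩
    rw [h, hσ.2 j hj]

theorem card_K35_succ {n : ℕ} (hn : n < 6) : Nat.card (K35 n) ≤ bnd n * Nat.card (K35 (n + 1)) := by
  have h := Subgroup.index_mul_card (MulAction.stabilizer (K35 n) (bp n))
  rw [MulAction.index_stabilizer] at h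
  rw [← h]
  refine Nat.mul_le_mul ?_ (le_of_eq (Nat.card_congr ⟨fun s => ⟨s.1.1, s.1.2.1, fun j hj => ?_⟩,
    fun s => ⟨⟨s.1, s.2.1, fun j hj => s.2.2 j (by omega)⟩, s.2.2 n (Nat.lt_succ_self n)⟩,
    fun s => rfl, fun s => rfl⟩))
  · rw [← base_ok.2.1 n hn, ← Set.ncard_coe_finset]
    refine Set.ncard_le_ncard (fun k hk => ?_)
    obtain ⟨σ, rfl⟩ := hk
    simp only [coe_filter, mem_univ, true_and]
    exact sameSig_apply σ.2 (bp n)
  · rcases Nat.lt_succ_iff_lt_or_eq.1 hj with hj | rfl
    exacts [s.1.2.2 j hj, s.2]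

theorem K35_six : K35 6 = ⊥ := (Subgroup.eq_bot_iff_forall _).2 fun σ hσ =>
  Equiv.ext fun k => base_ok.2.2 _ _ (sameSig_apply hσ k)

theorem card_Au35_le : Nat.card Au35 ≤ 40320 := by
  have h0 : K35 0 = Au35 := le_antisymm (fun _ h => h.1) fun _ h => ⟨h, fun _ hj => absurd hj (Nat.not_lt_zero _)⟩
  have hb : ∀ j < 6, bnd j = [35, 18, 8, 2, 2, 2].getD j 0 := by decide +kernel
  have h := fun n (hn : n < 6) => card_K35_succ hn
  rw [← h0]
  have e6 : Nat.card (K35 6) = 1 := by rw [K35_six, Subgroup.card_bot]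
  have a5 := h 5 (by norm_num); have a4 := h 4 (by norm_num); have a3 := h 3 (by norm_num)
  have a2 := h 2 (by norm_num); have a1 := h 1 (by norm_num); have a0 := h 0 (by norm_num)
  rw [hb 5 (by norm_num)] at a5; rw [hb 4 (by norm_num)] at a4; rw [hb 3 (by norm_num)] at a3
  rw [hb 2 (by norm_num)] at a2; rw [hb 1 (by norm_num)] at a1; rw [hb 0 (by norm_num)] at a0
  simp only [List.getD_cons_zero, List.getD_cons_succ, Nat.reduceAdd] at a0 a1 a2 a3 a4 a5
  omega

theorem card_nm {s : Finset (Fin 8)} (h : s.card = 4) : (nm s).card = 4 ∧ (7 : Fin 8) ∉ nm s := by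
  unfold nm
  split
  · next h7 => exact ⟨by rw [card_compl, h]; rfl, fun h' => mem_compl.1 h' h7⟩
  · next h7 => exact ⟨h, h7⟩

theorem parts_cover : ∀ s ∈ (univ : Finset (Fin 8)).powersetCard 4, (7 : Fin 8) ∉ s →
    ∃ k, part k = s := by decide +kernel

theorem parity_compl {a b : Finset (Fin 8)} (hb : b.card = 4) :
    (aᶜ ∩ b).card % 2 = (a ∩ b).card % 2 := by
  have h := card_inter_add_card_sdiff b a
  rw [inter_comm b a, show b \ a = aᶜ ∩ b by ext; simp [and_comm], hb] at h
  omega

theorem parity_nm {a b : Finset (Fin 8)} (hb : b.card = 4) :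
    (nm a ∩ b).card % 2 = (a ∩ b).card % 2 := by
  unfold nm
  split
  · exact parity_compl hb
  · rfl

/-- The image of a fixed point under a permutation of the letters. -/
noncomputable def ind (π : Equiv.Perm (Fin 8)) (k : Fin 35) : Fin 35 :=
  (parts_cover (nm ((part k).image π))
    (mem_powersetCard.2 ⟨subset_univ _, (card_nm (by rw [card_image_of_injective _ π.injective, (part_ok.1 k).1])).1⟩)
    (card_nm (by rw [card_image_of_injective _ π.injective, (part_ok.1 k).1])).2).choose

theorem part_ind (π : Equiv.Perm (Fin 8)) (k : Fin 35) : part (ind π k) = nm ((part k).image π) :=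
  (parts_cover (nm ((part k).image π))
    (mem_powersetCard.2 ⟨subset_univ _, (card_nm (by rw [card_image_of_injective _ π.injective, (part_ok.1 k).1])).1⟩)
    (card_nm (by rw [card_image_of_injective _ π.injective, (part_ok.1 k).1])).2).choose_spec

theorem nm_nm_image (π : Equiv.Perm (Fin 8)) (s : Finset (Fin 8)) :
    nm ((nm s).image π) = nm (s.image π) := by
  have hc : ∀ s : Finset (Fin 8), (sᶜ).image π = (s.image π)ᶜ := fun s => by
    have hm : ∀ (u : Finset (Fin 8)) (x : Fin 8), x ∈ u.image π ↔ π.symm x ∈ u := fun u x =>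
      ⟨fun h => by obtain ⟨y, hy, rfl⟩ := mem_image.1 h; simpa using hy,
        fun h => mem_image.2 ⟨_, h, π.apply_symm_apply x⟩⟩
    ext x
    simp only [hm, mem_compl]
  have hn : ∀ u : Finset (Fin 8), nm uᶜ = nm u := fun u => by
    by_cases h : (7 : Fin 8) ∈ u <;> simp [nm, h]
  by_cases h : (7 : Fin 8) ∈ s
  · rw [show nm s = sᶜ by simp [nm, h], hc, hn]
  · rw [show nm s = s by simp [nm, h]]

theorem ind_mul (π ρ : Equiv.Perm (Fin 8)) (k : Fin 35) : ind (π * ρ) k = ind π (ind ρ k) := by
  refine part_ok.2.2 _ _ ?_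
  rw [part_ind, part_ind, part_ind, nm_nm_image, image_image]
  rfl

theorem ind_one (k : Fin 35) : ind 1 k = k := by
  refine part_ok.2.2 _ _ ?_
  rw [part_ind, show (part k).image (1 : Equiv.Perm (Fin 8)) = part k by simp]
  simp [nm, (part_ok.1 k).2]

/-- The action of the symmetric group of degree eight on the fixed points. -/
noncomputable def indP : Equiv.Perm (Fin 8) →* Equiv.Perm (Fin 35) where
  toFun π := ⟨ind π, ind π⁻¹, fun k => by rw [← ind_mul, inv_mul_cancel, ind_one],
    fun k => by rw [← ind_mul, mul_inv_cancel, ind_one]⟩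
  map_one' := Equiv.ext ind_one
  map_mul' π ρ := Equiv.ext (ind_mul π ρ)

theorem indP_apply (π : Equiv.Perm (Fin 8)) (k : Fin 35) : indP π k = ind π k := rfl

theorem indP_mem (π : Equiv.Perm (Fin 8)) : indP π ∈ Au35 := by
  intro k l
  have hc : ∀ m, ((part m).image π).card = 4 := fun m => by
    rw [card_image_of_injective _ π.injective, (part_ok.1 m).1]
  rw [indP_apply, indP_apply, part_ok.2.1, part_ok.2.1, part_ind, part_ind,
    parity_nm (card_nm (hc l)).1, inter_comm, parity_nm (hc k), ← image_inter _ _ π.injective,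
    card_image_of_injective _ π.injective, inter_comm]

theorem indP_injective : Function.Injective indP := by
  rw [injective_iff_map_eq_one]
  intro π hπ
  by_contra hne
  obtain ⟨i, hi⟩ : ∃ i, π i ≠ i := by
    by_contra! h
    exact hne (Equiv.ext h)
  set j := π i
  obtain ⟨k, hk⟩ := Finset.card_pos.1 (show 0 < (({i, j, π.symm i} : Finset (Fin 8))ᶜ).card by
    have := card_le_three (a := i) (b := j) (c := π.symm i)
    rw [card_compl, Fintype.card_fin]; omega)
  simp only [mem_compl, mem_insert, mem_singleton, not_or] at hk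
  obtain ⟨hki, hkj, hks⟩ := hk
  have hl1 : π k ≠ i := fun h => hks (by rw [← h, Equiv.symm_apply_apply])
  have hl2 : π k ≠ j := fun h => hki (π.injective h)
  obtain ⟨s, hs1, hs2, hs3⟩ := Finset.exists_subsuperset_card_eq (n := 4)
    (show ({i, k, π k} : Finset (Fin 8)) ⊆ {j}ᶜ by
      intro x hx
      simp only [mem_insert, mem_singleton] at hx
      rcases hx with rfl | rfl | rfl <;> simp [hkj, hl2, Ne.symm hi])
    ((card_le_three).trans (by norm_num)) (by rw [card_compl, card_singleton, Fintype.card_fin]; norm_num)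
  have hjs : j ∉ s := fun h => by simpa using hs2 h
  have his : i ∈ s := hs1 (by simp)
  have hks' : k ∈ s := hs1 (by simp)
  have hls : π k ∈ s := hs1 (by simp)
  obtain ⟨m, hm⟩ := parts_cover (nm s)
    (mem_powersetCard.2 ⟨subset_univ _, (card_nm hs3).1⟩) (card_nm hs3).2
  have e := part_ind π m
  rw [show ind π m = m from DFunLike.congr_fun hπ m, hm, nm_nm_image] at e
  have hj' : j ∈ s.image π := mem_image_of_mem π his
  have hl' : π k ∈ s.image π := mem_image_of_mem π hks'
  have hor : s.image π = s ∨ s.image π = sᶜ := by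
    have key : ∀ u v : Finset (Fin 8), nm u = nm v → v = u ∨ v = uᶜ := fun u v h => by
      by_cases hu : (7 : Fin 8) ∈ u <;> by_cases hv : (7 : Fin 8) ∈ v <;> simp only [nm, hu, hv, if_true, if_false] at h
      · exact Or.inl (compl_inj_iff.1 h).symm
      · exact Or.inr h.symm
      · exact Or.inr (by rw [h, compl_compl])
      · exact Or.inl h.symm
    exact key _ _ e
  rcases hor with h | h
  · exact hjs (h ▸ hj')
  · exact (mem_compl.1 (h ▸ hl')) hls

theorem card_Au35 : Nat.card Au35 = 40320 ∧ indP.range = Au35 := by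
  have h1 : Nat.card indP.range = 40320 := by
    rw [← Nat.card_congr (MonoidHom.ofInjective indP_injective).toEquiv, Nat.card_perm, Nat.card_fin]
    rfl
  have hle : indP.range ≤ Au35 := by rintro _ ⟨π, rfl⟩; exact indP_mem π
  refine ⟨le_antisymm card_Au35_le ?_, Subgroup.eq_of_le_of_card_ge hle (card_Au35_le.trans h1.ge)⟩
  rw [← h1]
  exact Subgroup.card_le_of_le hle

/-- The permutations of the letters are the automorphisms of the graph. -/
noncomputable def eight : Equiv.Perm (Fin 8) ≃* Au35 :=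
  (MonoidHom.ofInjective indP_injective).trans (MulEquiv.subgroupCongr card_Au35.2)

theorem coe_eight (π : Equiv.Perm (Fin 8)) : ((eight π : Au35) : Equiv.Perm (Fin 35)) = indP π := rfl

theorem p3_even : Equiv.Perm.sign p3 = 1 ∧ Equiv.Perm.sign p7 = 1 := by decide +kernel

theorem mem_of_swaps {H : Subgroup (Equiv.Perm (Fin 8))} (h3 : p3 ∈ H) (h7 : p7 ∈ H) :
    alternatingGroup (Fin 8) ≤ H := by
  set H' := Subgroup.closure ({p3, p7} : Set (Equiv.Perm (Fin 8)))
  have hle : H' ≤ H := (Subgroup.closure_le _).2 fun x hx => by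
    rcases hx with rfl | rfl
    exacts [h3, h7]
  refine le_trans ?_ hle
  have hW : ∀ w, evalW w ∈ H' := fun w => Subgroup.list_prod_mem _ fun x hx => by
    obtain ⟨b, -, rfl⟩ := List.mem_map.1 hx
    cases b
    · exact Subgroup.subset_closure (Or.inl rfl)
    · exact Subgroup.subset_closure (Or.inr rfl)
  have hsw : ∀ x y : Fin 8, x ≠ y → Equiv.swap x y * Equiv.swap 0 1 ∈ H' := by
    intro x y hxy
    rcases lt_or_gt_of_ne hxy with h | h
    · obtain ⟨e, -, he, -⟩ := swap_ok x y h
      rw [he]; exact hW _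
    · obtain ⟨e, -, he, -⟩ := swap_ok y x h
      rw [Equiv.swap_comm, he]; exact hW _
  have heven : ∀ f ∈ H', Equiv.Perm.sign f = 1 := fun f hf => by
    induction hf using Subgroup.closure_induction with
    | mem x hx => rcases hx with rfl | rfl <;> [exact p3_even.1; exact p3_even.2]
    | one => exact map_one _
    | mul x y _ _ hx hy => rw [map_mul, hx, hy, one_mul]
    | inv x _ hx => rw [map_inv, hx, inv_one]
  have key : ∀ f : Equiv.Perm (Fin 8), f ∈ H' ∨ Equiv.swap 0 1 * f ∈ H' := by
    intro f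
    induction f using Equiv.Perm.swap_induction_on with
    | one => exact Or.inl (one_mem _)
    | swap_mul f x y hxy ih =>
      rcases ih with h | h
      · refine Or.inr ?_
        have h' := mul_mem (inv_mem (hsw x y hxy)) h
        rwa [mul_inv_rev, Equiv.swap_inv, Equiv.swap_inv, mul_assoc] at h'
      · refine Or.inl ?_
        have h' := mul_mem (hsw x y hxy) h
        rwa [mul_assoc, Equiv.swap_mul_self_mul] at h'
  intro f hf
  rcases key f with h | h
  · exact h
  · have := heven _ h
    rw [map_mul, Equiv.Perm.sign_swap (by decide), Equiv.Perm.mem_alternatingGroup.1 hf] at this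
    exact absurd this (by decide)

end Cfsg.Agent.GroupStructure3.McLInv
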