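import Mathlib
import Cfsg.Agent.GroupStructure3.McLInv.Group
import Cfsg.Agent.GroupStructure3.McLInv.Parts
import Cfsg.Agent.GroupStructure3.McLOut.Main
import Cfsg.Prelude.Def_SporadicB

/-!
The centraliser of an involution of the McLaughlin group is a non-split double cover of the
alternating group of degree eight.
-/

set_option autoImplicit false
set_option maxRecDepth 10000

namespace Cfsg.Agent.GroupStructure3.McLInv

open Cfsg.Agent.GroupStructure3.McLOut (Au adjB mem_Au)
open Cfsg

local notation "P275" => Equiv.Perm (Fin 275)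

/-- The centraliser. -/
noncomputable def Cn : Subgroup TT := Subgroup.centralizer ({tG} : Set TT)

theorem comm_t (c : Cn) (i : Fin 275) :
    ((c : TT) : P275) (t0 i) = t0 (((c : TT) : P275) i) := by
  have h : (c : TT) * tG = tG * (c : TT) := Subgroup.mem_centralizer_singleton_iff.1 c.2
  exact DFunLike.congr_fun (congrArg Subtype.val h) i

theorem mem_fix_iff (i : Fin 275) : (i : ℕ) ∈ fixL ↔ t0 i = i := by
  have h := allB_spec fix_ok.1 i i.2
  rw [beq_iff_eq, ← t0_spec.1 i] at h
  rw [← List.contains_iff_mem, ← h, beq_iff_eq, Fin.val_inj]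

theorem fp_val (k : Fin 35) : (fp k : ℕ) = fixL[(k : ℕ)]'(by rw [fix_ok.2.1]; exact k.2) := by
  have hk : (k : ℕ) < fixL.length := by rw [fix_ok.2.1]; exact k.2
  show fixL.getD (k : ℕ) 0 % 275 = _
  rw [List.getD_eq_getElem _ _ hk, Nat.mod_eq_of_lt (fix_ok.2.2.2 _ (List.getElem_mem hk))]

theorem fp_injective : Function.Injective fp := fun k l e => by
  have e' := congrArg Fin.val e
  rw [fp_val, fp_val] at e'
  exact Fin.ext ((fix_ok.2.2.1.getElem_inj_iff).1 e')

theorem fp_fixed (k : Fin 35) : t0 (fp k) = fp k :=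
  (mem_fix_iff _).1 (by rw [fp_val]; exact List.getElem_mem _)

theorem exists_fp {i : Fin 275} (h : t0 i = i) : ∃ k, fp k = i := by
  obtain ⟨n, hn, e⟩ := List.getElem_of_mem ((mem_fix_iff i).2 h)
  exact ⟨⟨n, fix_ok.2.1 ▸ hn⟩, Fin.ext (by rw [fp_val]; exact e)⟩

/-- The image of a fixed point under an element of the centraliser. -/
noncomputable def img (c : Cn) (k : Fin 35) : Fin 35 :=
  (exists_fp (i := ((c : TT) : P275) (fp k)) (by rw [← comm_t, fp_fixed])).choose

theorem fp_img (c : Cn) (k : Fin 35) : fp (img c k) = ((c : TT) : P275) (fp k) :=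
  (exists_fp (i := ((c : TT) : P275) (fp k)) (by rw [← comm_t, fp_fixed])).choose_spec

theorem img_mul (c d : Cn) (k : Fin 35) : img (c * d) k = img c (img d k) := by
  refine fp_injective ?_
  rw [fp_img, fp_img, fp_img]
  rfl

theorem img_one (k : Fin 35) : img 1 k = k := by
  refine fp_injective ?_
  rw [fp_img]
  rfl

/-- The action on the fixed points. -/
noncomputable def act35 : Cn →* Equiv.Perm (Fin 35) where
  toFun c := ⟨img c, img c⁻¹, fun k => by rw [← img_mul, inv_mul_cancel, img_one],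
    fun k => by rw [← img_mul, mul_inv_cancel, img_one]⟩
  map_one' := Equiv.ext img_one
  map_mul' c d := Equiv.ext (img_mul c d)

theorem act35_apply (c : Cn) (k : Fin 35) : act35 c k = img c k := rfl

theorem act35_mem (c : Cn) : act35 c ∈ Au35 := fun k l => by
  rw [act35_apply, act35_apply, adjF, fp_img, fp_img]
  exact TT_le (c : TT).2 _ _

/-- The action on eight letters. -/
noncomputable def pi8 : Cn →* Equiv.Perm (Fin 8) :=
  eight.symm.toMonoidHom.comp (act35.codRestrict Au35 act35_mem)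

theorem indP_pi8 (c : Cn) : indP (pi8 c) = act35 c := by
  rw [← coe_eight]
  show ((eight (eight.symm ⟨act35 c, act35_mem c⟩) : Au35) : Equiv.Perm (Fin 35)) = _
  rw [MulEquiv.apply_symm_apply]

theorem testBit_fix (i : Fin 275) : fixMask.testBit i = true ↔ t0 i = i := by
  have h := allB_spec fixMask_ok.1 i i.2
  rw [beq_iff_eq] at h
  rw [h, List.contains_iff_mem, mem_fix_iff]

theorem sig_eq {σ : P275} (hσ : σ ∈ Au) (hfix : ∀ i, t0 i = i → σ i = i) (i : Fin 275) :
    sigs.getD (σ i : Fin 275) 0 = sigs.getD i 0 := by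
  have e : ∀ j : Fin 275, sigs.getD j 0 = McLOut.adjM j &&& fixMask := fun j => by
    rw [sigs, List.getD_eq_getElem _ _ (by rw [List.length_map, List.length_range]; exact j.2),
      List.getElem_map, List.getElem_range]
  rw [e, e]
  apply Nat.eq_of_testBit_eq
  intro j
  rw [Nat.testBit_and, Nat.testBit_and]
  by_cases hj : j < 275
  · cases hb : fixMask.testBit j with
    | false => rw [Bool.and_false, Bool.and_false]
    | true =>
      rw [Bool.and_true, Bool.and_true]
      have hf : σ ⟨j, hj⟩ = ⟨j, hj⟩ := hfix _ ((testBit_fix ⟨j, hj⟩).1 hb)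
      have h := hσ i ⟨j, hj⟩
      rw [hf] at h
      exact h
  · rw [Nat.testBit_lt_two_pow (fixMask_ok.2.trans_le (Nat.pow_le_pow_right (by norm_num) (not_lt.1 hj))),
      Bool.and_false, Bool.and_false]

theorem sig_cases {σ : P275} (hσ : σ ∈ Au) (hfix : ∀ i, t0 i = i → σ i = i) (i : Fin 275) :
    σ i = i ∨ σ i = t0 i := by
  by_cases h : t0 i = i
  · exact Or.inl (hfix i h)
  · have h1 := allB_spec sig_ok i i.2
    rw [Bool.or_eq_true, beq_iff_eq, ← t0_spec.1 i, Fin.val_inj] at h1
    have h2 := allB_spec (h1.resolve_left h) (σ i : Fin 275) (σ i).2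
    have hT : ∀ j : Fin 275, pT tT j = ((t0 j : Fin 275) : ℕ) := fun j => (t0_spec.1 j).symm
    simp only [Bool.or_eq_true, bne_iff_ne, beq_iff_eq, hT, Fin.val_inj] at h2
    rcases h2 with ((h2 | h2) | h2) | h2
    · exact absurd (sig_eq hσ hfix i).symm h2
    · exact Or.inl h2
    · exact Or.inr h2
    · exact absurd (by rwa [σ.injective (hfix _ h2)] at h2) h

theorem chain_fix {σ : P275} (hσ : σ ∈ Au) (hfix : ∀ i, t0 i = i → σ i = i)
    (hcomm : ∀ i, σ (t0 i) = t0 (σ i)) :
    ∀ (L : List (ℕ × ℕ)) (seen : List ℕ), chainOK seen L = true →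
      (∀ x ∈ seen, ∀ h : x < 275, σ ⟨x, h⟩ = ⟨x, h⟩) → σ = 1
  | [], seen, hc, hs => Equiv.ext fun i => by
    have h := allB_spec hc i i.2
    rw [Bool.or_eq_true, beq_iff_eq, ← t0_spec.1 i, Fin.val_inj, List.contains_iff_mem] at h
    exact h.elim (hfix i) fun h => hs _ h i.2
  | (x, w) :: r, seen, hc, hs => by
    simp only [chainOK, Bool.and_eq_true, decide_eq_true_eq, List.contains_iff_mem, bne_iff_ne] at hc
    obtain ⟨⟨⟨hx, hw⟩, hne⟩, hr⟩ := hc
    refine chain_fix hσ hfix hcomm r _ hr ?_
    have ht : ((t0 ⟨x, hx⟩ : Fin 275) : ℕ) = pT tT x := t0_spec.1 _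
    have hσx : σ ⟨x, hx⟩ = ⟨x, hx⟩ := by
      refine (sig_cases hσ hfix _).resolve_right fun h => ?_
      by_cases hwl : w < 275
      · have := hσ ⟨w, hwl⟩ ⟨x, hx⟩
        rw [hs w hw hwl, h] at this
        apply hne
        rw [← ht]
        exact this.symm
      · apply hne
        have hz : McLOut.adjNum >>> (275 * w) = 0 := by
          rw [Nat.shiftRight_eq_div_pow]
          refine Nat.div_eq_of_lt (lt_of_lt_of_le ?_ (Nat.pow_le_pow_right (by norm_num)
            (Nat.mul_le_mul_left 275 (not_lt.1 hwl))))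
          decide +kernel
        simp [McLOut.adjM, hz]
    intro y hy hy'
    rcases List.mem_cons.1 hy with rfl | hy
    · exact hσx
    rcases List.mem_cons.1 hy with rfl | hy
    · have e : (⟨pT tT x, hy'⟩ : Fin 275) = t0 ⟨x, hx⟩ := Fin.ext ht.symm
      rw [e, hcomm, hσx]
    · exact hs y hy hy'

theorem ker_pi8 (c : Cn) : pi8 c = 1 ↔ (c : TT) = 1 ∨ (c : TT) = tG := by
  refine ⟨fun h => ?_, fun h => ?_⟩
  · have h35 : act35 c = 1 := by rw [← indP_pi8, h, map_one]
    set σ : P275 := ((c : TT) : P275) with hσdef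
    have hfix : ∀ i, t0 i = i → σ i = i := fun i hi => by
      obtain ⟨k, rfl⟩ := exists_fp hi
      rw [← fp_img, ← act35_apply, h35]
      rfl
    have hσ : σ ∈ Au := TT_le (c : TT).2
    have htt : ∀ i, t0 (t0 i) = i := fun i => by
      rw [← Equiv.Perm.mul_apply, ← pow_two, t0_spec.2.1]
      rfl
    rcases sig_cases hσ hfix ⟨start, chain_ok.1⟩ with h0 | h0
    · refine Or.inl (Subtype.ext ?_)
      refine chain_fix hσ hfix (comm_t c) _ _ chain_ok.2 fun y hy hy' => ?_
      simp only [List.mem_cons, List.mem_nil_iff, or_false] at hy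
      rcases hy with rfl | rfl
      · exact h0
      · have e : (⟨pT tT start, hy'⟩ : Fin 275) = t0 ⟨start, chain_ok.1⟩ := Fin.ext (t0_spec.1 ⟨start, chain_ok.1⟩).symm
        rw [e, comm_t c, h0]
    · refine Or.inr (Subtype.ext ?_)
      have key : t0 * σ = 1 := by
        refine chain_fix (mul_mem t0_spec.2.2 hσ) (fun i hi => ?_) (fun i => ?_) _ _ chain_ok.2
          fun y hy hy' => ?_
        · rw [Equiv.Perm.mul_apply, hfix i hi, hi]
        · rw [Equiv.Perm.mul_apply, Equiv.Perm.mul_apply, comm_t c]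
        · simp only [List.mem_cons, List.mem_nil_iff, or_false] at hy
          rcases hy with rfl | rfl
          · rw [Equiv.Perm.mul_apply, h0, htt]
          · have e : (⟨pT tT start, hy'⟩ : Fin 275) = t0 ⟨start, chain_ok.1⟩ := Fin.ext (t0_spec.1 ⟨start, chain_ok.1⟩).symm
            rw [e, Equiv.Perm.mul_apply, comm_t c, h0, htt]
      refine Equiv.ext fun i => ?_
      have := DFunLike.congr_fun key i
      rw [Equiv.Perm.mul_apply, Equiv.Perm.one_apply] at this
      show σ i = t0 i
      conv_rhs => rw [← this, htt]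
  · refine indP_injective ?_
    rw [indP_pi8, map_one]
    refine Equiv.ext fun k => fp_injective ?_
    rw [act35_apply, fp_img]
    rcases h with h | h <;> rw [h]
    · rfl
    · exact fp_fixed k

theorem exists_word : ∀ w : List ℕ, (∀ k ∈ w, k < tree.length ∧
      (allB 275 fun i => pT (node k) (pT tT i) == pT tT (pT (node k) i)) = true) →
    ∃ c : Cn, ∀ i : Fin 275, ((((c : TT) : P275) i : Fin 275) : ℕ) = wordT w i
  | [], _ => ⟨1, fun _ => rfl⟩
  | k :: r, h => by
    obtain ⟨c, hc⟩ := exists_word r fun j hj => h j (List.mem_cons_of_mem _ hj)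
    obtain ⟨hk, hk'⟩ := h k List.mem_cons_self
    obtain ⟨g, -, hσ⟩ := node_spec k hk
    have hmem : (⟨_, node_mem hk hσ⟩ : TT) ∈ Cn := by
      rw [Cn, Subgroup.mem_centralizer_singleton_iff]
      refine Subtype.ext (Equiv.ext fun i => Fin.ext ?_)
      show (((g * t0 * g⁻¹) * t0) i : Fin 275).val = ((t0 * (g * t0 * g⁻¹)) i : Fin 275).val
      rw [hσ.mul t0_spec.1 i, IsT.mul (σ := t0) t0_spec.1 hσ i]
      exact beq_iff_eq.1 (allB_spec hk' i i.2)
    refine ⟨⟨_, hmem⟩ * c, fun i => ?_⟩
    show (((g * t0 * g⁻¹) (((c : TT) : P275) i) : Fin 275) : ℕ) = _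
    rw [hσ, hc, wordT]

theorem pi8_word {w : List ℕ} {p : Equiv.Perm (Fin 8)} {c : Cn}
    (hc : ∀ i : Fin 275, ((((c : TT) : P275) i : Fin 275) : ℕ) = wordT w i)
    (h : ∀ k : Fin 35, ∃ l : Fin 35, wordT w (fp k) = fp l ∧ part l = nm ((part k).image p)) :
    pi8 c = p := by
  refine indP_injective ?_
  rw [indP_pi8]
  refine Equiv.ext fun k => ?_
  obtain ⟨l, hl, hl'⟩ := h k
  have : act35 c k = l := fp_injective (by rw [act35_apply, fp_img]; exact Fin.ext ((hc _).trans hl))
  rw [this, indP_apply]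
  exact part_ok.2.2 _ _ (by rw [part_ind, hl'])

theorem range_pi8 : pi8.range = alternatingGroup (Fin 8) := by
  have hw := words_ok.1
  obtain ⟨c3, h3⟩ := exists_word word3 fun k hk => hw k (List.mem_append_left _ hk)
  obtain ⟨c7, h7⟩ := exists_word word7 fun k hk => hw k (List.mem_append_right _ hk)
  have hA : alternatingGroup (Fin 8) ≤ pi8.range :=
    mem_of_swaps ⟨c3, pi8_word h3 words_ok.2.1⟩ ⟨c7, pi8_word h7 words_ok.2.2⟩
  refine le_antisymm ?_ hA
  by_contra hne
  have h2 : Nat.card (alternatingGroup (Fin 8)) = 20160 := by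
    have := two_mul_nat_card_alternatingGroup (α := Fin 8)
    rw [Nat.card_perm, Nat.card_fin, show Nat.factorial 8 = 40320 from rfl] at this
    omega
  have htop : pi8.range = ⊤ := by
    have h1 := Subgroup.relIndex_mul_relIndex _ _ _ hA (le_top : pi8.range ≤ ⊤)
    rw [Subgroup.relIndex_top_right, Subgroup.relIndex_top_right,
      alternatingGroup.index_eq_two] at h1
    rcases (Nat.dvd_prime Nat.prime_two).1 (Dvd.intro_left _ h1) with h | h
    · exact Subgroup.index_eq_one.1 h
    · rw [h] at h1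
      exact absurd (Subgroup.relIndex_eq_one.1 (by omega)) hne
  have hker : Nat.card pi8.ker = 2 := by
    have hmem : (⟨tG, Subgroup.mem_centralizer_singleton_iff.2 rfl⟩ : Cn) ≠ 1 := fun e => by
      have := order_tG
      rw [show tG = 1 from congrArg Subtype.val e, orderOf_one] at this
      norm_num at this
    rw [Nat.card_eq_two_iff]
    refine ⟨⟨1, map_one _⟩, ⟨⟨tG, Subgroup.mem_centralizer_singleton_iff.2 rfl⟩,
      MonoidHom.mem_ker.2 ((ker_pi8 _).2 (Or.inr rfl))⟩, fun e => hmem (congrArg Subtype.val e).symm,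
      Set.eq_univ_of_forall fun c => ?_⟩
    rcases (ker_pi8 c.1).1 c.2 with h | h
    · exact Or.inl (Subtype.ext (Subtype.ext h))
    · exact Or.inr (Subtype.ext (Subtype.ext h))
  have hcard := pi8.ker.card_mul_index
  rw [Subgroup.index_ker, htop, Subgroup.card_top, hker, Nat.card_perm, Nat.card_fin,
    show Nat.factorial 8 = 40320 from rfl] at hcard
  have hdvd := Subgroup.card_subgroup_dvd_card Cn
  rw [card_TT, ← hcard] at hdvd
  norm_num at hdvd

theorem mem_center_iff (c : Cn) : c ∈ Subgroup.center Cn ↔ pi8 c = 1 := by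
  refine ⟨fun h => ?_, fun h => ?_⟩
  · have hc : (⟨pi8 c, range_pi8 ▸ ⟨c, rfl⟩⟩ : alternatingGroup (Fin 8)) ∈ Subgroup.center _ := by
      rw [Subgroup.mem_center_iff]
      rintro ⟨q, hq⟩
      obtain ⟨d, rfl⟩ := (range_pi8.symm ▸ hq : q ∈ pi8.range)
      refine Subtype.ext ?_
      show pi8 d * pi8 c = pi8 c * pi8 d
      rw [← map_mul, ← map_mul, Subgroup.mem_center_iff.1 h d]
    rw [alternatingGroup.center_eq_bot (by rw [Nat.card_fin]; norm_num), Subgroup.mem_bot] at hc
    exact congrArg Subtype.val hc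
  · rw [Subgroup.mem_center_iff]
    intro d
    refine Subtype.ext ?_
    rcases (ker_pi8 c).1 h with e | e
    · rw [Subgroup.coe_mul, Subgroup.coe_mul, e, mul_one, one_mul]
    · rw [Subgroup.coe_mul, Subgroup.coe_mul, e]
      exact Subgroup.mem_centralizer_singleton_iff.1 d.2

theorem center_eq : Subgroup.center Cn = pi8.ker :=
  Subgroup.ext fun c => (mem_center_iff c).trans MonoidHom.mem_ker.symm

theorem card_center : Nat.card (Subgroup.center Cn) = 2 := by
  rw [Nat.card_eq_two_iff]
  have ht : (⟨tG, Subgroup.mem_centralizer_singleton_iff.2 rfl⟩ : Cn) ∈ Subgroup.center Cn :=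
    (mem_center_iff _).2 ((ker_pi8 _).2 (Or.inr rfl))
  refine ⟨1, ⟨_, ht⟩, fun e => ?_, Set.eq_univ_of_forall fun c => ?_⟩
  · have h : tG = 1 := (congrArg (fun z : Subgroup.center Cn => ((z : Cn) : TT)) e).symm
    have := order_tG
    rw [h, orderOf_one] at this
    norm_num at this
  · rcases (ker_pi8 c.1).1 ((mem_center_iff c.1).1 c.2) with h | h
    · exact Or.inl (Subtype.ext (Subtype.ext h))
    · exact Or.inr (Subtype.ext (Subtype.ext h))

theorem nonsplit_Cn : Cfsg.IsNonsplitDoubleCover Cn (alternatingGroup (Fin 8)) := by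
  refine ⟨card_center, ⟨(QuotientGroup.quotientMulEquivOfEq center_eq).trans
    ((QuotientGroup.quotientKerEquivRange pi8).trans (MulEquiv.subgroupCongr range_pi8))⟩, fun L hL => ?_⟩
  set r : TT := ⟨_, Syl_le (syP ⟨rootIdx, root_ok.1⟩).2⟩
  have hr2 : r ^ 2 = tG := Subtype.ext root_sq
  have hrC : r ∈ Cn := Subgroup.mem_centralizer_singleton_iff.2 (by rw [← hr2, ← pow_succ', ← pow_succ])
  have hi : L.index = 2 := hL.index_eq_card.trans card_center
  have h : (⟨r, hrC⟩ : Cn) ^ 2 ∈ L := Subgroup.sq_mem_of_index_two hi _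
  have hz : (⟨r, hrC⟩ : Cn) ^ 2 ∈ Subgroup.center Cn :=
    (mem_center_iff _).2 ((ker_pi8 _).2 (Or.inr (by rw [SubgroupClass.coe_pow]; exact hr2)))
  have h1 := (Subgroup.disjoint_def.1 hL.disjoint) hz h
  have e : tG = 1 := by
    rw [← hr2]
    exact congrArg Subtype.val h1
  have := order_tG
  rw [e, orderOf_one] at this
  norm_num at this

theorem transfer {H K A : Type*} [Group H] [Finite H] [Group K] [Group A] (e : H ≃* K)
    (h : Cfsg.IsNonsplitDoubleCover K A) : Cfsg.IsNonsplitDoubleCover H A := by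
  obtain ⟨hc, ⟨q⟩, hn⟩ := h
  have hz : (Subgroup.center H).map e.toMonoidHom = Subgroup.center K := by
    ext k
    rw [Subgroup.mem_map_equiv, Subgroup.mem_center_iff, Subgroup.mem_center_iff]
    refine ⟨fun h g => ?_, fun h g => ?_⟩
    · have := congrArg e (h (e.symm g))
      simpa using this
    · apply e.injective
      simpa using h (e g)
  refine ⟨?_, ⟨(QuotientGroup.congr (Subgroup.center H) (Subgroup.center K) e hz).trans q⟩, fun L hL => ?_⟩
  · rw [← hc, ← hz, Subgroup.card_map_of_injective e.injective]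
  · refine hn (L.map e.toMonoidHom) ?_
    rw [← hz]
    refine (haveI : Finite K := Finite.of_equiv _ e.toEquiv; Subgroup.isComplement'_of_card_mul_and_disjoint ?_ ?_)
    · rw [Subgroup.card_map_of_injective e.injective, Subgroup.card_map_of_injective e.injective,
        hL.card_mul_card, Nat.card_congr e.toEquiv]
    · rw [disjoint_iff, ← Subgroup.map_inf_eq _ _ _ e.injective, disjoint_iff.1 hL.disjoint,
        Subgroup.map_bot]

theorem main : (∀ x y : Spor.McL, orderOf x = 2 → orderOf y = 2 → IsConj x y) ∧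
    ∃ t : Spor.McL, orderOf t = 2 ∧
      Cfsg.IsNonsplitDoubleCover ↥(Subgroup.centralizer ({t} : Set Spor.McL)) (alternatingGroup (Fin 8)) := by
  obtain ⟨E⟩ := McLOut.nonempty_equiv
  let e : Spor.McL ≃* TT := E.trans (MonoidHom.ofInjective McLOut.toPerm_injective)
  have hconj : ∀ x y : Spor.McL, orderOf x = 2 → orderOf y = 2 → IsConj x y := fun x y hx hy => by
    have h := MonoidHom.map_isConj e.symm.toMonoidHom ((isConj_tG (x := e x) (by rw [e.orderOf_eq, hx])).symm.trans
      (isConj_tG (x := e y) (by rw [e.orderOf_eq, hy])))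
    simpa using h
  haveI : Finite Spor.McL := Finite.of_equiv _ e.symm.toEquiv
  refine ⟨hconj, e.symm tG, by rw [e.symm.orderOf_eq, order_tG], transfer ?_ nonsplit_Cn⟩
  have hmap : (Subgroup.centralizer ({e.symm tG} : Set Spor.McL)).map e.toMonoidHom = Cn := by
    ext k
    rw [Subgroup.mem_map_equiv, Cn, Subgroup.mem_centralizer_singleton_iff,
      Subgroup.mem_centralizer_singleton_iff]
    constructor
    · intro h
      have := congrArg e h
      simpa using this
    · intro h
      rw [← map_mul, ← map_mul, h]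
  exact (e.subgroupMap _).trans (MulEquiv.subgroupCongr hmap)

end Cfsg.Agent.GroupStructure3.McLInv
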